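import Mathlib
import Cfsg.Agent.Lib.Helper70.HH.S3786Defs2
import Cfsg.Agent.Lib.Helper30.HH.S3789Crit

/-!
# S3786, package (C1) `LemCritN`: the critical `q`-subgroup for a normal subgroup `A` of `B`
(helper86)

`lemCritN : Cfsg.Agent.Lib.Helper70.HH86.LemCritN`.  Adapted from helper30's `crit_core` /
`lemCrit` (`A = [B, B]`), with the element `z` chosen central of order `p` modulo the kernel of
`B` on `Q / Φ(Q)`.
-/

set_option autoImplicit false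

namespace Cfsg.Agent.Lib.Helper86.HH86

open Cfsg.Agent.Lib.Helper70.HH89 Cfsg.Agent.Lib.Helper70.HH86 Cfsg.Agent.Lib.Helper30.HH89

universe u

section core

variable {H : Type u} [Group H]

theorem crit_coreN {p q : ℕ} [Fact p.Prime] (hq : q.Prime) (hqp : q ≠ p) [Finite H]
    (B A Q : Subgroup H) (hB : IsPGroup p B) (hAB : A ≤ B)
    (hBA : ∀ b ∈ B, ∀ a ∈ A, b * a * b⁻¹ ∈ A) (hQ : IsPGroup q Q)
    (hBQ : ∀ b ∈ B, ∀ g ∈ Q, b * g * b⁻¹ ∈ Q)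
    (hmin : ∀ Q₁ : Subgroup H, Q₁ ≤ Q → Q₁ ≠ Q → (∀ b ∈ B, ∀ g ∈ Q₁, b * g * b⁻¹ ∈ Q₁) →
        ∀ a ∈ A, ∀ g ∈ Q₁, a * g = g * a)
    (hnc : ∃ a ∈ A, ∃ g ∈ Q, a * g ≠ g * a) :
    ∃ z : H, z ∈ A ∧
      (∀ g ∈ Q, z * g * z⁻¹ * g⁻¹ ∈ frat Q → g ∈ frat Q) ∧
      (∃ g ∈ Q, g ∉ frat Q) ∧
      (∀ c ∈ frat Q, ∀ g ∈ Q, c * g = g * c) ∧
      (∀ a ∈ A, ∀ c ∈ frat Q, a * c = c * a) ∧
      Q ≤ Subgroup.closure {x : H | ∃ g ∈ Q, x = z * g * z⁻¹ * g⁻¹} ∧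
      (∀ b ∈ B, ∀ g ∈ Q,
        (z * b * z⁻¹ * b⁻¹) * g * (z * b * z⁻¹ * b⁻¹)⁻¹ * g⁻¹ ∈ frat Q) ∧
      (∀ g ∈ Q, z ^ p * g * (z ^ p)⁻¹ * g⁻¹ ∈ frat Q) := by
  have hp : p.Prime := Fact.out
  have : Fact q.Prime := ⟨hq⟩
  have hBN : B ≤ Subgroup.normalizer (Q : Set H) := le_normalizer_of_conj Q B hBQ
  have hfB : ∀ b ∈ B, ∀ c ∈ frat Q, b * c * b⁻¹ ∈ frat Q :=
    fun b hb c hc => frat_conj_mem Q (hBN hb) hc
  have hfQ : ∀ g ∈ Q, ∀ c ∈ frat Q, g * c * g⁻¹ ∈ frat Q :=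
    fun g hg c hc => frat_conj_mem Q (Subgroup.le_normalizer hg) hc
  -- `A` acts non-trivially on `Q / Φ(Q)`
  have hS5 : ∃ a ∈ A, ∃ g ∈ Q, a * g * a⁻¹ * g⁻¹ ∉ frat Q := by
    by_contra hcon
    push Not at hcon
    obtain ⟨a0, ha0, g0, hg0, hag0⟩ := hnc
    have hcop : (Nat.card (A : Subgroup H)).Coprime (Nat.card (frattini Q)) := by
      obtain ⟨k, hk⟩ := IsPGroup.iff_card.mp (hB.to_le hAB)
      obtain ⟨m, hm⟩ := IsPGroup.iff_card.mp (hQ.to_subgroup (frattini Q))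
      rw [hk, hm]
      exact Nat.Coprime.pow _ _ ((Nat.coprime_primes hp hq).mpr (Ne.symm hqp))
    have h := Cfsg.Agent.S0029.result A Q (hAB.trans hBN) hcop hcon
    have h1 := Subgroup.mem_centralizer_iff.mp (h ha0) g0 hg0
    exact hag0 h1.symm
  have h8 : ∃ g ∈ Q, g ∉ frat Q := by
    obtain ⟨a1, ha1, g1, hg1, h1⟩ := hS5
    exact ⟨_, Q.mul_mem (hBQ a1 (hAB ha1) g1 hg1) (Q.inv_mem hg1), h1⟩
  have hfne : frat Q ≠ Q := by
    obtain ⟨g, hg, hgf⟩ := h8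
    intro h
    rw [h] at hgf
    exact hgf hg
  have hAf : ∀ a ∈ A, ∀ c ∈ frat Q, a * c = c * a := hmin (frat Q) (frat_le' Q) hfne hfB
  -- the kernel of `B` on `Q / Φ(Q)`
  let KB : Subgroup H :=
    { carrier := {b | b ∈ B ∧ ∀ g ∈ Q, b * g * b⁻¹ * g⁻¹ ∈ frat Q}
      mul_mem' := by
        rintro b b' ⟨hb, hb2⟩ ⟨hb', hb2'⟩
        refine ⟨B.mul_mem hb hb', fun g hg => ?_⟩
        have e : b * b' * g * (b * b')⁻¹ * g⁻¹ =
            (b * (b' * g * b'⁻¹ * g⁻¹) * b⁻¹) * (b * g * b⁻¹ * g⁻¹) := by group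
        rw [e]
        exact (frat Q).mul_mem (hfB b hb _ (hb2' g hg)) (hb2 g hg)
      one_mem' := ⟨B.one_mem, fun g hg => by simp⟩
      inv_mem' := by
        rintro b ⟨hb, hb2⟩
        refine ⟨B.inv_mem hb, fun g hg => ?_⟩
        have hg' : b⁻¹ * g * b ∈ Q := by simpa using hBQ b⁻¹ (B.inv_mem hb) g hg
        have h := (frat Q).inv_mem (hb2 _ hg')
        have e : (b * (b⁻¹ * g * b) * b⁻¹ * (b⁻¹ * g * b)⁻¹)⁻¹ = b⁻¹ * g * b⁻¹⁻¹ * g⁻¹ := by group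
        rwa [e] at h }
  have hKB : ∀ x, x ∈ KB ↔ (x ∈ B ∧ ∀ g ∈ Q, x * g * x⁻¹ * g⁻¹ ∈ frat Q) := fun x => Iff.rfl
  have hKn : (KB.subgroupOf B).Normal := by
    constructor
    rintro ⟨k, hkB⟩ hk ⟨b, hb⟩
    rw [Subgroup.mem_subgroupOf] at hk ⊢
    show b * k * b⁻¹ ∈ KB
    have hk' : k ∈ KB := hk
    rw [hKB] at hk' ⊢
    refine ⟨B.mul_mem (B.mul_mem hb hkB) (B.inv_mem hb), fun g hg => ?_⟩
    have hg' : b⁻¹ * g * b ∈ Q := by simpa using hBQ b⁻¹ (B.inv_mem hb) g hg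
    have h := hfB b hb _ (hk'.2 _ hg')
    have e : b * (k * (b⁻¹ * g * b) * k⁻¹ * (b⁻¹ * g * b)⁻¹) * b⁻¹ =
        b * k * b⁻¹ * g * (b * k * b⁻¹)⁻¹ * g⁻¹ := by group
    rw [e] at h
    exact h
  have hAn : ((A : Subgroup H).subgroupOf B).Normal := by
    constructor
    rintro ⟨a, haB⟩ ha ⟨b, hb⟩
    rw [Subgroup.mem_subgroupOf] at ha ⊢
    exact hBA b hb a ha
  have hRp : IsPGroup p (↥B ⧸ KB.subgroupOf B) := hB.to_quotient _
  have hDn : (((A : Subgroup H).subgroupOf B).map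
      (QuotientGroup.mk' (KB.subgroupOf B))).Normal :=
    Subgroup.Normal.map hAn _ (QuotientGroup.mk'_surjective _)
  have hDne : ((A : Subgroup H).subgroupOf B).map (QuotientGroup.mk' (KB.subgroupOf B)) ≠
      ⊥ := by
    obtain ⟨a1, ha1, g1, hg1, h1⟩ := hS5
    intro hbot
    have hmem : (QuotientGroup.mk' (KB.subgroupOf B)) ⟨a1, hAB ha1⟩ ∈
        ((A : Subgroup H).subgroupOf B).map (QuotientGroup.mk' (KB.subgroupOf B)) :=
      ⟨_, Subgroup.mem_subgroupOf.mpr ha1, rfl⟩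
    rw [hbot, Subgroup.mem_bot] at hmem
    have h2 : (⟨a1, hAB ha1⟩ : B) ∈ KB.subgroupOf B := (QuotientGroup.eq_one_iff _).mp hmem
    rw [Subgroup.mem_subgroupOf] at h2
    have h3 : a1 ∈ KB := h2
    rw [hKB] at h3
    exact h1 (h3.2 g1 hg1)
  obtain ⟨zb0, hzD0, hz10, hzc0⟩ :=
    Cfsg.Agent.Lib.Helper53.exists_mem_center_of_normal_of_ne_bot hRp _ hDne
  obtain ⟨⟨z0, hz0B⟩, hz0A, rfl⟩ := hzD0
  have hz0A' : z0 ∈ A := Subgroup.mem_subgroupOf.mp hz0A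
  -- pass to a power of order `p`
  obtain ⟨k, hk⟩ := (IsPGroup.iff_orderOf.mp hRp) ((QuotientGroup.mk' (KB.subgroupOf B)) ⟨z0, hz0B⟩)
  have hk0 : k ≠ 0 := by
    intro h0
    rw [h0, pow_zero, orderOf_eq_one_iff] at hk
    exact hz10 hk
  obtain ⟨z, hzdef⟩ : ∃ z : H, z = z0 ^ p ^ (k - 1) := ⟨_, rfl⟩
  have hzB : z ∈ B := by rw [hzdef]; exact B.pow_mem hz0B _
  have hzA' : z ∈ A := by rw [hzdef]; exact A.pow_mem hz0A' _
  have hzeq : (QuotientGroup.mk' (KB.subgroupOf B)) ⟨z, hzB⟩ =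
      ((QuotientGroup.mk' (KB.subgroupOf B)) ⟨z0, hz0B⟩) ^ p ^ (k - 1) := by
    rw [← map_pow]
    congr 1
    exact Subtype.ext hzdef
  have hz1 : (QuotientGroup.mk' (KB.subgroupOf B)) ⟨z, hzB⟩ ≠ 1 := by
    rw [hzeq]
    intro h1
    have h2 := orderOf_dvd_of_pow_eq_one h1
    rw [hk] at h2
    have h3 : k ≤ k - 1 := (Nat.pow_dvd_pow_iff_le_right hp.one_lt).mp h2
    omega
  have hzc : (QuotientGroup.mk' (KB.subgroupOf B)) ⟨z, hzB⟩ ∈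
      Subgroup.center (↥B ⧸ KB.subgroupOf B) := by
    rw [hzeq]
    exact Subgroup.pow_mem _ hzc0 _
  have hzp : ((QuotientGroup.mk' (KB.subgroupOf B)) ⟨z, hzB⟩) ^ p = 1 := by
    rw [hzeq, ← pow_mul, ← pow_succ]
    have h1 : k - 1 + 1 = k := by omega
    rw [h1, ← hk]
    exact pow_orderOf_eq_one _
  have hzK : ∃ g ∈ Q, z * g * z⁻¹ * g⁻¹ ∉ frat Q := by
    by_contra hcon
    push Not at hcon
    apply hz1
    apply (QuotientGroup.eq_one_iff _).mpr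
    rw [Subgroup.mem_subgroupOf]
    show z ∈ KB
    rw [hKB]
    exact ⟨hzB, hcon⟩
  have hzcentK : ∀ b ∈ B, b * z * b⁻¹ * z⁻¹ ∈ KB := by
    intro b hb
    have h1 := Subgroup.mem_center_iff.mp hzc ((QuotientGroup.mk' (KB.subgroupOf B)) ⟨b, hb⟩)
    have h2 : (QuotientGroup.mk' (KB.subgroupOf B))
        (⟨b, hb⟩ * ⟨z, hzB⟩ * ⟨b, hb⟩⁻¹ * ⟨z, hzB⟩⁻¹) = 1 := by
      rw [map_mul, map_mul, map_mul, map_inv, map_inv, h1]
      group
    have h3 := (QuotientGroup.eq_one_iff _).mp h2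
    rw [Subgroup.mem_subgroupOf] at h3
    exact h3
  have hzcent : ∀ b ∈ B, ∀ g ∈ Q,
      (b * z * b⁻¹ * z⁻¹) * g * (b * z * b⁻¹ * z⁻¹)⁻¹ * g⁻¹ ∈ frat Q := by
    intro b hb g hg
    have h4 := hzcentK b hb
    rw [hKB] at h4
    exact h4.2 g hg
  have hzcent' : ∀ b ∈ B, ∀ g ∈ Q,
      (z * b * z⁻¹ * b⁻¹) * g * (z * b * z⁻¹ * b⁻¹)⁻¹ * g⁻¹ ∈ frat Q := by
    intro b hb g hg
    have h4 := KB.inv_mem (hzcentK b hb)
    have e : (b * z * b⁻¹ * z⁻¹)⁻¹ = z * b * z⁻¹ * b⁻¹ := by group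
    rw [e, hKB] at h4
    exact h4.2 g hg
  have hzpK : ∀ g ∈ Q, z ^ p * g * (z ^ p)⁻¹ * g⁻¹ ∈ frat Q := by
    have h2 : (QuotientGroup.mk' (KB.subgroupOf B)) (⟨z, hzB⟩ ^ p) = 1 := by
      rw [map_pow]; exact hzp
    have h3 := (QuotientGroup.eq_one_iff _).mp h2
    rw [Subgroup.mem_subgroupOf] at h3
    have h4 : z ^ p ∈ KB := h3
    rw [hKB] at h4
    exact h4.2
  have hzQ : ∀ g ∈ Q, z * g * z⁻¹ ∈ Q := hBQ z hzB
  obtain ⟨S, hS⟩ : ∃ S : Set H, S = {x : H | ∃ g ∈ Q, x = z * g * z⁻¹ * g⁻¹} := ⟨_, rfl⟩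
  have hSmem : ∀ g ∈ Q, z * g * z⁻¹ * g⁻¹ ∈ S := by
    intro g hg
    rw [hS]
    exact ⟨g, hg, rfl⟩
  have hSQ : S ⊆ (Q : Set H) := by
    rw [hS]
    rintro _ ⟨g, hg, rfl⟩
    exact Q.mul_mem (hzQ g hg) (Q.inv_mem hg)
  have hQm : Q ≤ Subgroup.closure (S ∪ (frat Q : Set H)) := by
    by_contra hcon
    have hle : Subgroup.closure (S ∪ (frat Q : Set H)) ≤ Q := by
      rw [Subgroup.closure_le]
      exact Set.union_subset hSQ (frat_le' Q)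
    have hne : Subgroup.closure (S ∪ (frat Q : Set H)) ≠ Q := fun h => hcon (le_of_eq h.symm)
    have hinv : ∀ b ∈ B, ∀ x ∈ Subgroup.closure (S ∪ (frat Q : Set H)),
        b * x * b⁻¹ ∈ Subgroup.closure (S ∪ (frat Q : Set H)) := by
      intro b hb
      apply conj_closure
      rintro x (hx | hx)
      · rw [hS] at hx
        obtain ⟨g, hg, rfl⟩ := hx
        have hg' : b * g * b⁻¹ ∈ Q := hBQ b hb g hg
        have e : b * (z * g * z⁻¹ * g⁻¹) * b⁻¹ =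
            ((b * z * b⁻¹ * z⁻¹) * (z * (b * g * b⁻¹) * z⁻¹) * (b * z * b⁻¹ * z⁻¹)⁻¹ *
              (z * (b * g * b⁻¹) * z⁻¹)⁻¹) *
            (z * (b * g * b⁻¹) * z⁻¹ * (b * g * b⁻¹)⁻¹) := by group
        rw [e]
        apply Subgroup.mul_mem
        · exact Subgroup.subset_closure (Or.inr (hzcent b hb _ (hzQ _ hg')))
        · exact Subgroup.subset_closure (Or.inl (hSmem _ hg'))
      · exact Subgroup.subset_closure (Or.inr (hfB b hb x hx))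
    have hcen := hmin _ hle hne hinv
    obtain ⟨g, hg, hgf⟩ := hzK
    apply hgf
    have h1 : z * g * z⁻¹ * g⁻¹ = 1 := by
      obtain ⟨m, hm⟩ := hB ⟨z, hzB⟩
      have hzm : z ^ p ^ m = 1 := congrArg Subtype.val hm
      have hcQ : z * g * z⁻¹ * g⁻¹ ∈ Q := hSQ (hSmem g hg)
      obtain ⟨n, hn⟩ := hQ ⟨_, hcQ⟩
      have hcn : (z * g * z⁻¹ * g⁻¹) ^ q ^ n = 1 := congrArg Subtype.val hn
      exact comm_eq_one_of_coprime hp hq hqp z g m n hzm hcn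
        (hcen z hzA' _ (Subgroup.subset_closure (Or.inl (hSmem g hg))))
    rw [h1]
    exact (frat Q).one_mem
  have hgenQ : Q ≤ Subgroup.closure S := by
    apply le_of_le_sup_frat Q _ ((Subgroup.closure_le _).mpr hSQ)
    rw [Subgroup.closure_union, Subgroup.closure_eq] at hQm
    exact hQm
  have h9 : ∀ c ∈ frat Q, ∀ g ∈ Q, c * g = g * c := by
    intro c hc g hg
    have hle : Subgroup.closure S ≤ Subgroup.centralizer ({c} : Set H) := by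
      rw [Subgroup.closure_le, hS]
      rintro _ ⟨h, hh, rfl⟩
      rw [SetLike.mem_coe, Subgroup.mem_centralizer_iff]
      intro y hy
      rw [Set.mem_singleton_iff] at hy
      subst hy
      have h1 : z * y = y * z := hAf z hzA' y hc
      have hc' : h⁻¹ * y * h ∈ frat Q := by simpa using hfQ h⁻¹ (Q.inv_mem hh) y hc
      have h2 : z * (h⁻¹ * y * h) = (h⁻¹ * y * h) * z := hAf z hzA' _ hc'
      have h2' : z⁻¹ * (h⁻¹ * y * h) = (h⁻¹ * y * h) * z⁻¹ :=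
        (Commute.inv_left (show Commute z (h⁻¹ * y * h) from h2)).eq
      calc y * (z * h * z⁻¹ * h⁻¹) = (y * z) * h * z⁻¹ * h⁻¹ := by group
        _ = (z * y) * h * z⁻¹ * h⁻¹ := by rw [h1]
        _ = z * h * ((h⁻¹ * y * h) * z⁻¹) * h⁻¹ := by group
        _ = z * h * (z⁻¹ * (h⁻¹ * y * h)) * h⁻¹ := by rw [h2']
        _ = (z * h * z⁻¹ * h⁻¹) * y := by group
    exact Subgroup.mem_centralizer_iff.mp (hle (hgenQ hg)) c (Set.mem_singleton c)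
  have hzN : z ∈ Subgroup.normalizer (Q : Set H) := hBN hzB
  have h7 : ∀ g ∈ Q, z * g * z⁻¹ * g⁻¹ ∈ frat Q → g ∈ frat Q := by
    have hQq : IsPGroup q Q := hQ
    have key := fpf_of_gen (frattini Q) (Cfsg.Agent.S0029.conjEquiv Q z hzN)
      (fun a b => Cfsg.Agent.Lib.Helper87.comm_mem_frattini hQq a b)
      (fun c hc => by
        have h1 := Subgroup.characteristic_iff_map_eq.mp (frattini_characteristic (G := Q))
          (Cfsg.Agent.S0029.conjEquiv Q z hzN)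
        rw [← h1]
        exact ⟨c, hc, rfl⟩)
      (by
        rw [eq_top_iff]
        rintro ⟨x, hx⟩ -
        have hle : Subgroup.closure S ≤ (Subgroup.closure {y : Q | ∃ g : Q,
            y = (Cfsg.Agent.S0029.conjEquiv Q z hzN) g * g⁻¹}).map Q.subtype := by
          rw [Subgroup.closure_le, hS]
          rintro _ ⟨g, hg, rfl⟩
          exact ⟨_, Subgroup.subset_closure ⟨⟨g, hg⟩, rfl⟩, rfl⟩
        obtain ⟨y, hy, hyx⟩ := hle (hgenQ hx)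
        have : y = ⟨x, hx⟩ := Subtype.ext hyx
        rwa [← this])
    intro g hg hgf
    have h1 : (Cfsg.Agent.S0029.conjEquiv Q z hzN) ⟨g, hg⟩ * (⟨g, hg⟩ : Q)⁻¹ ∈ frattini Q :=
      (mem_frat_iff' Q (hSQ (hSmem g hg))).mp hgf
    exact (mem_frat_iff' Q hg).mpr (key ⟨g, hg⟩ h1)
  refine ⟨z, hzA', h7, h8, h9, hAf, ?_, hzcent', hzpK⟩
  rw [hS] at hgenQ
  exact hgenQ

end core

/-- Package (C1) of S3786: the critical `q`-subgroup for a normal subgroup `A ≠ 1` of `B`. -/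
theorem lemCritN : LemCritN.{u} := by
  intro p _ H _ _ hsol hOp B A hB hAB hBA hA
  classical
  obtain ⟨y, hyA, hy1⟩ : ∃ y ∈ A, y ≠ 1 := by
    by_contra hcon
    push Not at hcon
    exact hA ((Subgroup.eq_bot_iff_forall _).mpr hcon)
  obtain ⟨q0, hq0, R, hq0p, hRq, hBR, hyR⟩ :=
    Cfsg.Agent.Lib.Helper54.exists_normalized_not_centralized_of_mem hsol hOp B hB y
      (hAB hyA) hy1
  let P : ℕ → Prop := fun n => ∃ (q : ℕ) (Q : Subgroup H), q.Prime ∧ q ≠ p ∧ IsPGroup q Q ∧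
    (∀ b ∈ B, ∀ g ∈ Q, b * g * b⁻¹ ∈ Q) ∧ (∃ a ∈ A, ∃ g ∈ Q, a * g ≠ g * a) ∧
    Nat.card Q = n
  have hex : ∃ n, P n := by
    refine ⟨Nat.card R, q0, R, hq0, hq0p, hRq, ?_, ?_, rfl⟩
    · intro b hb g hg
      exact (Subgroup.mem_normalizer_iff.mp (hBR hb) g).mp hg
    · rw [Subgroup.mem_centralizer_iff] at hyR
      push Not at hyR
      obtain ⟨g, hg, hne⟩ := hyR
      exact ⟨y, hyA, g, hg, fun h => hne h.symm⟩
  obtain ⟨q, Q, hq, hqp, hQq, hBQ, hnc, hcard⟩ := Nat.find_spec hex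
  have hmin : ∀ Q₁ : Subgroup H, Q₁ ≤ Q → Q₁ ≠ Q → (∀ b ∈ B, ∀ g ∈ Q₁, b * g * b⁻¹ ∈ Q₁) →
      ∀ a ∈ A, ∀ g ∈ Q₁, a * g = g * a := by
    intro Q₁ hle hne hinv a ha g hg
    by_contra hcon
    have hlt : Nat.card Q₁ < Nat.find hex := by
      rw [← hcard]
      by_contra hnlt
      exact hne (Subgroup.eq_of_le_of_card_ge hle (not_lt.mp hnlt))
    exact Nat.find_min hex hlt ⟨q, Q₁, hq, hqp, hQq.to_le hle, hinv, ⟨a, ha, g, hg, hcon⟩, rfl⟩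
  obtain ⟨z, hzA, h7, h8, h9, h10, h11, h12, h13⟩ :=
    crit_coreN hq hqp B A Q hB hAB hBA hQq hBQ hmin hnc
  exact ⟨q, Q, z, hq, hqp, hQq, hzA, hBQ, hmin, h7, h8, h9, h10, h11, h12, h13⟩

end Cfsg.Agent.Lib.Helper86.HH86
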